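import Groth.Agent.S16956
import Groth.Agent.CohBC.God
import Groth.Agent.Lib.InvEnd
import Groth.Agent.Lib.CurveDualPrep
import Groth.Agent.H23.Seesaw
import Groth.Agent.QuotRep.HighBCGlobal

/-!
# The stratum where the direct image of an invertible module is invertible and commutes with base change
-/

set_option autoImplicit false
set_option linter.style.haveILetI false
set_option linter.unusedSectionVars false
set_option backward.isDefEq.respectTransparency false
set_option backward.isDefEq.respectTransparency.types false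
set_option maxHeartbeats 1000000

universe u

open CategoryTheory CategoryTheory.Limits AlgebraicGeometry

noncomputable section

namespace Groth.Agent.LineStratum

open Groth.Agent

variable {X S : Scheme.{u}} (f : X ⟶ S) [IsProper f] {T : Scheme.{u}} (t : T ⟶ S)
  {XT : Scheme.{u}} (fT : XT ⟶ T) (gT : XT ⟶ X) (hT : IsPullback gT fT f t) {F : X.Modules}

include hT in
/-- The stratum property does not depend on the chosen model of the base change. -/
theorem stratum_iff (hF : Coh.IsQCoh F) :
    GenBC.RankStratum.Stratum f 1 F t ↔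
      (PicF.IsInvertible ((Scheme.Modules.pushforward fT).obj ((Scheme.Modules.pullback gT).obj F)) ∧
        ∀ (T' : Scheme.{u}) (u : T' ⟶ T) (XT' : Scheme.{u}) (fT' : XT' ⟶ T') (u' : XT' ⟶ XT)
          (hT' : IsPullback u' fT' fT u),
          IsIso (CohBC.bc0 fT u fT' u' hT'.w ((Scheme.Modules.pullback gT).obj F))) := by
  let p := Limits.pullback.snd f t
  let q := Limits.pullback.fst f t
  let F' := (Scheme.Modules.pullback q).obj F
  let e := hT.isoPullback
  have hef : e.hom ≫ p = fT := hT.isoPullback_hom_snd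
  have heg : e.hom ≫ q = gT := hT.isoPullback_hom_fst
  have sq : IsPullback e.hom fT p (𝟙 T) := IsPullback.of_horiz_isIso ⟨by rw [hef, Category.comp_id]⟩
  have hF' : Coh.IsQCoh F' := QCoh.isQCoh_pullback q hF
  haveI : IsProper p := inferInstanceAs (IsProper (Limits.pullback.snd f t))
  haveI hbc : IsIso (CohBC.bc0 p (𝟙 T) fT e.hom sq.w F') := CohBC.isIso_bc0 p (𝟙 T) e.hom fT sq hF'
  let ε : (Scheme.Modules.pullback e.hom).obj F' ≅ (Scheme.Modules.pullback gT).obj F :=
    (Scheme.Modules.pullbackComp e.hom q).app F ≪≫ (Scheme.Modules.pullbackCongr heg).app F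
  let ζ : (Scheme.Modules.pushforward p).obj F' ≅ (Scheme.Modules.pushforward fT).obj ((Scheme.Modules.pullback gT).obj F) :=
    ((Scheme.Modules.pullbackId T).app _).symm ≪≫ asIso (CohBC.bc0 p (𝟙 T) fT e.hom sq.w F') ≪≫ (Scheme.Modules.pushforward fT).mapIso ε
  have key : ∀ (T' : Scheme.{u}) (u : T' ⟶ T) (XT' : Scheme.{u}) (fT' : XT' ⟶ T') (u' : XT' ⟶ XT)
      (w : u' ≫ fT = fT' ≫ u) (w' : (u' ≫ e.hom) ≫ p = fT' ≫ u),
      IsIso (CohBC.bc0 fT u fT' u' w ((Scheme.Modules.pullback gT).obj F)) ↔ IsIso (CohBC.bc0 p u fT' (u' ≫ e.hom) w' F') := by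
    intro T' u XT' fT' u' w w'
    have w'' : (u' ≫ e.hom) ≫ p = fT' ≫ u ≫ 𝟙 T := by rw [Category.comp_id]; exact w'
    refine Iff.trans ?_ (((PBC.bc0_paste_right p F' u' e.hom fT' fT u (𝟙 T) w sq.w w'' hbc).1).trans
      (PBC.bc0_congr p F' (Category.comp_id u) rfl w'' w').1)
    exact ⟨fun h => QuotRep.isIso_bc0_of_iso fT w ε.symm h, fun h => QuotRep.isIso_bc0_of_iso fT w ε h⟩
  constructor
  · rintro ⟨h1, h2⟩
    refine ⟨H23.PicMul.isInvertible_of_iso ζ (CurveDuality.isInvertible_of_rank_one h1), fun T' u XT' fT' u' hT' => ?_⟩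
    have h := hT'.paste_horiz sq
    rw [Category.comp_id] at h
    exact (key T' u XT' fT' u' hT'.w h.w).2 (h2 _ _ _ h)
  · rintro ⟨h1, h2⟩
    refine ⟨InvEnd.isFinLocFreeOfRank_one (H23.PicMul.isInvertible_of_iso ζ.symm h1), fun X'' T' v' f'' u' h => ?_⟩
    have hv : v' = (v' ≫ e.inv) ≫ e.hom := by rw [Category.assoc, Iso.inv_hom_id, Category.comp_id]
    have h' : IsPullback (v' ≫ e.inv) f'' fT u' := by
      have h0 : IsPullback ((v' ≫ e.inv) ≫ e.hom) f'' p (u' ≫ 𝟙 T) := by
        rw [← hv, Category.comp_id]; exact h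
      exact IsPullback.of_right h0 (by
        rw [Category.assoc, show e.inv ≫ fT = p from hT.isoPullback_inv_snd]; exact h.w) sq
    have w' : ((v' ≫ e.inv) ≫ e.hom) ≫ p = f'' ≫ u' := by rw [← hv]; exact h.w
    exact (PBC.bc0_congr p F' rfl hv h.w w').1.2 ((key T' u' X'' f'' _ h'.w w').1 (h2 T' u' X'' f'' _ h'))

end Groth.Agent.LineStratum
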